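import Cfsg.Agent.H794.Imc
import Cfsg.Agent.H492.TwoSub_m3
import Cfsg.Agent.H492.FactsHN
import Cfsg.Agent.H94.IMCPerm_m3
import Cfsg.Agent.H287.Blk.HN
import Cfsg.Agent.FastGrp
import Cfsg.Agent.Prune
set_option linter.all false
prune_inst 0x7f00000000000000000000000000000000000000000000000000000000000000000000000000000000000000000000000000000000000000000000000000000000000000000000000000000000000000003ffff7ffffffffffffffffffffffbeffbdefffffff
open scoped Cfsg.Agent.FastGrp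

-- part: H426/Imc/Real
section
/-!
# `IMC p G` from a real irreducible character of odd degree (helper426)

* `fix_of_real_odd` : a real valued `χ` with algebraic integer values and `χ 1` odd has non-zero sum over every
  subgroup of odd order;
* `imc_of_real_odd` : `p` odd, `χ` irreducible and real valued of odd degree divisible by `p` : `IMC p G`;
* `fix_of_rational`, `imc_of_rational` : `χ` constant on generators of the cyclic `p`-subgroups, `(p - 1) ∤ χ 1`.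
-/

set_option autoImplicit false

open Cfsg

namespace Cfsg.Agent.H426.Imc.Real

open Cfsg.Agent.H625.SylConst

universe u

/-- In the algebraic integers, a natural number divisible by `m` is divisible by `m` as a natural number. -/
theorem dvd_of_algInt {m n : ℕ} (hm : m ≠ 0) {z : AlgInt} (h : (n : AlgInt) = (m : AlgInt) * z) : m ∣ n := by
  have h1 : (n : ℂ) = (m : ℂ) * (z : ℂ) := by
    have := congrArg (Subtype.val) h
    simpa using this
  have h2 : ((n : ℚ) / m : ℚ) = ((n : ℚ) / m : ℚ) := rfl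
  have hm' : (m : ℂ) ≠ 0 := by exact_mod_cast hm
  have h3 : (z : ℂ) = (((n : ℚ) / m : ℚ) : ℂ) := by
    push_cast
    rw [h1, mul_div_cancel_left₀ _ hm']
  have h4 : IsIntegral ℤ (((n : ℚ) / m : ℚ) : ℂ) := h3 ▸ z.2
  have h5 : IsIntegral ℤ ((n : ℚ) / m : ℚ) := by
    have := (isIntegral_algebraMap_iff (R := ℤ) (A := ℚ) (B := ℂ) (algebraMap ℚ ℂ).injective (x := (n : ℚ) / m)).1
    exact this (by simpa using h4)
  obtain ⟨k, hk⟩ := IsIntegrallyClosed.isIntegral_iff.1 h5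
  have hmq : (m : ℚ) ≠ 0 := by exact_mod_cast hm
  have h6 : (n : ℚ) = m * k := by
    rw [eq_comm, div_eq_iff hmq] at hk
    rw [hk, mul_comm]
    rfl
  have h7 : (n : ℤ) = m * k := by exact_mod_cast h6
  exact Int.natCast_dvd_natCast.1 ⟨k, h7⟩

theorem fix_of_real_odd {G : Type u} [Group G] [Finite G] (P : Subgroup G) (hP : Odd (Nat.card P)) {χ : G → ℂ}
    (hint : ∀ g, IsIntegral ℤ (χ g)) (hreal : ∀ g, χ g⁻¹ = χ g) {n : ℕ} (h1 : χ 1 = n) (hn : Odd n) :
    Fix P χ := by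
  classical
  have := Fintype.ofFinite P
  rw [fix_iff]
  intro h0
  let f : P → AlgInt := fun z => ⟨χ z, hint z⟩
  have hf : ∑ z : P, f z = 0 := by
    apply Subtype.ext
    rw [AddSubmonoidClass.coe_finsetSum]
    exact h0
  let J : Ideal AlgInt := Ideal.span {(2 : AlgInt)}
  have hsum : ∑ z ∈ Finset.univ.erase (1 : P), Ideal.Quotient.mk J (f z) = 0 := by
    refine Finset.sum_involution (fun z _ => z⁻¹) ?_ ?_ ?_ ?_
    · intro z _
      have e : f z⁻¹ = f z := Subtype.ext (by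
        show χ ((z⁻¹ : P) : G) = χ z
        rw [Subgroup.coe_inv]; exact hreal z)
      rw [e, ← map_add, Ideal.Quotient.eq_zero_iff_mem]
      exact Ideal.mem_span_singleton.2 ⟨f z, by ring⟩
    · intro z hz _ he
      have hz1 : z ≠ 1 := (Finset.mem_erase.1 hz).1
      apply hz1
      have h2 : z ^ 2 = 1 := by
        rw [pow_two]
        nth_rewrite 1 [← he]
        exact inv_mul_cancel z
      have h3 : orderOf z ∣ 2 := orderOf_dvd_of_pow_eq_one h2
      have h4 : orderOf z ∣ Nat.card P := orderOf_dvd_natCard z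
      have h5 : orderOf z ∣ 1 := by
        have := Nat.dvd_gcd h3 h4
        rwa [(Nat.coprime_two_left.2 hP : Nat.gcd 2 (Nat.card P) = 1)] at this
      exact orderOf_eq_one_iff.1 (Nat.dvd_one.1 h5)
    · intro z hz
      refine Finset.mem_erase.2 ⟨fun h => (Finset.mem_erase.1 hz).1 (inv_eq_one.1 h), Finset.mem_univ _⟩
    · intro z _
      exact inv_inv z
  have h3 : Ideal.Quotient.mk J (f 1) = 0 := by
    have h4 := congrArg (Ideal.Quotient.mk J) hf
    rw [map_sum, map_zero, ← Finset.add_sum_erase _ _ (Finset.mem_univ (1 : P)), hsum, add_zero] at h4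
    exact h4
  rw [Ideal.Quotient.eq_zero_iff_mem] at h3
  obtain ⟨z, hz⟩ := Ideal.mem_span_singleton.1 h3
  have h5 : (n : AlgInt) = ((2 : ℕ) : AlgInt) * z := by
    rw [Nat.cast_ofNat, ← hz]
    apply Subtype.ext
    show ((n : AlgInt) : ℂ) = χ ((1 : P) : G)
    rw [Subgroup.coe_one, h1]
    norm_cast
  have h6 := dvd_of_algInt (by norm_num) h5
  exact (Nat.not_even_iff_odd.2 hn) (even_iff_two_dvd.2 h6)

/-- **A real irreducible character of odd degree divisible by `p`.** -/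
theorem imc_of_real_odd {G : Type u} [Group G] [Finite G] {p : ℕ} [hp : Fact p.Prime] (hp2 : p ≠ 2)
    (χ : IrrCharacter G) (hreal : ∀ g, (χ : G → ℂ) g⁻¹ = (χ : G → ℂ) g) (hd : p ∣ charDegree (χ : G → ℂ))
    (hodd : Odd (charDegree (χ : G → ℂ))) : IMC p G := by
  obtain ⟨P⟩ : Nonempty (Sylow p G) := inferInstance
  refine ⟨χ, P, hd, fix_of_real_odd _ ?_ (fun g => CharactersDeep.ModCongr.isIntegral_irr χ.2 g) hreal
    (Blocks.Basic.irr_one_eq_charDegree χ.2) hodd⟩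
  obtain ⟨k, hk⟩ := IsPGroup.iff_card.1 P.isPGroup'
  rw [hk]
  exact (hp.out.odd_of_ne_two hp2).pow

end Cfsg.Agent.H426.Imc.Real
end

-- part: H426/Imc/Sph
section
/-!
# Real irreducible characters from spherical functions (helper426)

The theorems of `H492/IMSph.lean`, with the additional information that the character is real valued:
`χ g⁻¹ = χ g`.
-/

set_option autoImplicit false

namespace Cfsg.Agent.H426.Imc.Sph

open Cfsg Cfsg.Agent.Characters.Core Cfsg.Agent.H492.IMSph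
open scoped ComplexConjugate

universe u

variable {G : Type u} [Group G]

theorem exists_irr_of_spherical [Fintype G] {φ : G → ℂ} {κ : ℂ} (h1 : φ 1 = 1) (hs : ∀ z, φ z⁻¹ = φ z)
    (hκ : ∑ z, φ z * φ z⁻¹ = κ) (hκ0 : κ ≠ 0)
    (hprim : ∀ y u, ∑ g, φ g * φ (y⁻¹ * g⁻¹ * u) = (∑ g, φ g * φ (y⁻¹ * g⁻¹)) * φ u) :
    ∃ χ : IrrCharacter G, (χ : G → ℂ) 1 * κ = Nat.card G ∧ (∀ g, (χ : G → ℂ) g⁻¹ = (χ : G → ℂ) g) ∧
      ∀ g, (χ : G → ℂ) g = ∑ a : G, κ⁻¹ * φ (a⁻¹ * (g * a)) := by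
  classical
  -- the idempotent
  have hid : ∀ u, ∑ g, φ g * φ (g⁻¹ * u) = κ * φ u := by
    intro u
    have h := hprim 1 u
    rw [inv_one] at h
    simp only [one_mul] at h
    rw [h, hκ]
  have hy : ∀ y, ∑ g, φ g * φ (y⁻¹ * g⁻¹) = κ * φ y⁻¹ := by
    intro y
    rw [← hid y⁻¹, ← Equiv.sum_comp ((Equiv.mulLeft y).trans (Equiv.inv G))]
    refine Finset.sum_congr rfl fun k _ => ?_
    simp only [Equiv.trans_apply, Equiv.inv_apply, Equiv.coe_mulLeft, inv_inv, mul_inv_rev]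
    rw [inv_mul_cancel_left, mul_comm]
  have hG : (Nat.card G : ℂ) ≠ 0 := by
    exact_mod_cast Nat.card_pos.ne'
  -- the character
  have hc : IsCharacter G (fun g : G => ∑ a : G, κ⁻¹ * φ (a⁻¹ * (g * a))) := by
    have := Cfsg.Agent.H651.isCharacter_sum_perm (MulAction.toPermHom G G)
      (fun a b => κ⁻¹ * φ (a⁻¹ * b)) ?_ ?_
    · exact this
    · intro a c
      have h2 : ∀ b, κ⁻¹ * φ (a⁻¹ * b) * (κ⁻¹ * φ (b⁻¹ * c)) =
          κ⁻¹ * κ⁻¹ * (φ (a⁻¹ * b) * φ (b⁻¹ * c)) := fun b => by ring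
      rw [Finset.sum_congr rfl fun b _ => h2 b, ← Finset.mul_sum]
      rw [← Equiv.sum_comp (Equiv.mulLeft a)]
      have h3 : ∀ b, φ (a⁻¹ * (Equiv.mulLeft a) b) * φ (((Equiv.mulLeft a) b)⁻¹ * c) =
          φ b * φ (b⁻¹ * (a⁻¹ * c)) := by
        intro b
        simp only [Equiv.coe_mulLeft, inv_mul_cancel_left, mul_inv_rev, mul_assoc]
      rw [Finset.sum_congr rfl fun b _ => h3 b, hid]
      field_simp
    · intro g a b
      show κ⁻¹ * φ ((g * a)⁻¹ * (g * b)) = _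
      rw [mul_inv_rev, mul_assoc, inv_mul_cancel_left]
  set θ : G → ℂ := fun g : G => ∑ a : G, κ⁻¹ * φ (a⁻¹ * (g * a)) with hθ
  -- its norm
  have hnorm : classInner θ θ = 1 := by
    rw [classInner_def]
    have h2 : ∀ g, θ g * conj (θ g) = θ g * θ g⁻¹ := fun g => by rw [isCharacter_apply_inv hc]
    rw [Finset.sum_congr rfl fun g _ => h2 g]
    -- the second factor is a class function
    have hcl : ∀ g x, θ (x * g * x⁻¹) = θ g := by
      intro g x
      rw [hθ]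
      show ∑ a : G, κ⁻¹ * φ (a⁻¹ * (x * g * x⁻¹ * a)) = ∑ a : G, κ⁻¹ * φ (a⁻¹ * (g * a))
      rw [← Equiv.sum_comp (Equiv.mulLeft x)]
      refine Finset.sum_congr rfl fun a _ => ?_
      simp only [Equiv.coe_mulLeft, mul_inv_rev]
      congr 2
      group
    have h3 : ∑ g, θ g * θ g⁻¹ = Nat.card G * ∑ g, κ⁻¹ * φ g * θ g⁻¹ := by
      have e1 : ∀ g, θ g * θ g⁻¹ = ∑ a : G, κ⁻¹ * φ (a⁻¹ * (g * a)) * θ g⁻¹ := fun g => by
        rw [← Finset.sum_mul]
      rw [Finset.sum_congr rfl fun g _ => e1 g, Finset.sum_comm]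
      have e2 : ∀ a : G, ∑ g, κ⁻¹ * φ (a⁻¹ * (g * a)) * θ g⁻¹ = ∑ g, κ⁻¹ * φ g * θ g⁻¹ := by
        intro a
        rw [← Equiv.sum_comp (MulAut.conj a).toEquiv]
        refine Finset.sum_congr rfl fun g _ => ?_
        have e3 : (MulAut.conj a).toEquiv g = a * g * a⁻¹ := rfl
        have e4 : (a * g * a⁻¹)⁻¹ = a * g⁻¹ * a⁻¹ := by group
        have e5 : a⁻¹ * (a * g * a⁻¹ * a) = g := by group
        rw [e3, e4, hcl, e5]
      rw [Finset.sum_congr rfl fun a _ => e2 a, Finset.sum_const, Finset.card_univ,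
        ← Nat.card_eq_fintype_card, nsmul_eq_mul]
    have h4 : ∑ g, κ⁻¹ * φ g * θ g⁻¹ = 1 := by
      have e1 : ∀ g, κ⁻¹ * φ g * θ g⁻¹ = ∑ y, κ⁻¹ * κ⁻¹ * (φ g * φ (y⁻¹ * g⁻¹ * y)) := by
        intro g
        rw [hθ]
        show κ⁻¹ * φ g * ∑ a : G, κ⁻¹ * φ (a⁻¹ * (g⁻¹ * a)) = _
        rw [Finset.mul_sum]
        refine Finset.sum_congr rfl fun a _ => ?_
        rw [← mul_assoc a⁻¹]
        ring
      rw [Finset.sum_congr rfl fun g _ => e1 g, Finset.sum_comm]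
      have e2 : ∀ y : G, ∑ g, κ⁻¹ * κ⁻¹ * (φ g * φ (y⁻¹ * g⁻¹ * y)) =
          κ⁻¹ * (φ y * φ y⁻¹) := by
        intro y
        rw [← Finset.mul_sum, hprim, hy]
        field_simp
      rw [Finset.sum_congr rfl fun y _ => e2 y, ← Finset.mul_sum, hκ, inv_mul_cancel₀ hκ0]
    rw [h3, h4, mul_one, inv_mul_cancel₀ hG]
  have hirr : IsIrrCharacter G θ := isIrr_of_classInner_self hc hnorm
  refine ⟨⟨θ, hirr⟩, ?_, fun g => Finset.sum_congr rfl fun a _ => by
    rw [← hs (a⁻¹ * (g⁻¹ * a))]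
    congr 2
    group, fun g => rfl⟩
  show (∑ a : G, κ⁻¹ * φ (a⁻¹ * (1 * a))) * κ = _
  have h5 : ∀ a : G, κ⁻¹ * φ (a⁻¹ * (1 * a)) = κ⁻¹ := fun a => by
    rw [one_mul, inv_mul_cancel, h1, mul_one]
  rw [Finset.sum_congr rfl fun a _ => h5 a, Finset.sum_const, Finset.card_univ,
    ← Nat.card_eq_fintype_card, nsmul_eq_mul, mul_assoc, inv_mul_cancel₀ hκ0, mul_one]

/-- The version for the Hecke algebra. -/
theorem exists_irr_of_hecke [Fintype G] (H : Subgroup G) [Fintype H] (t : G) {φ : G → ℂ} {μ κ : ℂ}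
    (hl : ∀ h ∈ H, ∀ g, φ (h * g) = φ g) (hr : ∀ h ∈ H, ∀ g, φ (g * h) = φ g) (h1 : φ 1 = 1)
    (hT : ∀ g, ∑ h : H, φ (g * h * t) = μ * φ g)
    (huniq : ∀ f : G → ℂ, (∀ h ∈ H, ∀ g, f (h * g) = f g) → (∀ h ∈ H, ∀ g, f (g * h) = f g) →
      (∀ g, ∑ h : H, f (g * h * t) = μ * f g) → ∀ g, f g = f 1 * φ g)
    (hκ : ∑ z, φ z * φ z⁻¹ = κ) (hκ0 : κ ≠ 0) (hs : ∀ z, φ z⁻¹ = φ z) :
    ∃ χ : IrrCharacter G, (χ : G → ℂ) 1 * κ = Nat.card G ∧ (∀ g, (χ : G → ℂ) g⁻¹ = (χ : G → ℂ) g) ∧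
      ∀ g, (χ : G → ℂ) g = ∑ a : G, κ⁻¹ * φ (a⁻¹ * (g * a)) := by
  refine exists_irr_of_spherical h1 hs hκ hκ0 fun y u => ?_
  have h := huniq (fun u => ∑ g, φ g * φ (y⁻¹ * g⁻¹ * u)) ?_ ?_ ?_ u
  · simp only [mul_one] at h
    exact h
  · intro h hh g
    show ∑ x, φ x * φ (y⁻¹ * x⁻¹ * (h * g)) = ∑ x, φ x * φ (y⁻¹ * x⁻¹ * g)
    rw [← Equiv.sum_comp (Equiv.mulLeft h)]
    refine Finset.sum_congr rfl fun x _ => ?_
    simp only [Equiv.coe_mulLeft]
    rw [hl h hh]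
    congr 2
    group
  · intro h hh g
    show ∑ x, φ x * φ (y⁻¹ * x⁻¹ * (g * h)) = ∑ x, φ x * φ (y⁻¹ * x⁻¹ * g)
    refine Finset.sum_congr rfl fun x _ => ?_
    rw [← mul_assoc (y⁻¹ * x⁻¹), hr h hh]
  · intro g
    show ∑ h : H, ∑ x, φ x * φ (y⁻¹ * x⁻¹ * (g * h * t)) =
      μ * ∑ x, φ x * φ (y⁻¹ * x⁻¹ * g)
    rw [Finset.sum_comm, Finset.mul_sum]
    refine Finset.sum_congr rfl fun x _ => ?_
    have e : ∀ h : H, φ x * φ (y⁻¹ * x⁻¹ * (g * h * t)) = φ x * φ (y⁻¹ * x⁻¹ * g * h * t) := by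
      intro h
      congr 2
      group
    rw [Finset.sum_congr rfl fun h _ => e h, ← Finset.mul_sum, hT]
    ring

open DoubleCoset in
/-- **Irreducible characters from a table of local counts.** -/
theorem exists_irr_of_table [Finite G] (H : Subgroup G) {m n : ℕ} (w : Fin m → G) (t : G)
    (hdis : ∀ i j, w j ∈ doubleCoset (w i) (H : Set G) (H : Set G) → i = j)
    (hcov : ∀ g, ∃ i, g ∈ doubleCoset (w i) (H : Set G) (H : Set G))
    (hinv : ∀ i, (w i)⁻¹ ∈ doubleCoset (w i) (H : Set G) (H : Set G))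
    (pt : H → Fin n) (N : ℕ) (hN : 0 < N) (hpt : ∀ q, Nat.card {h : H // pt h = q} = N)
    (τ : Fin m → Fin n → Fin m)
    (hτ : ∀ i (h : H), w i * h * t ∈ doubleCoset (w (τ i (pt h))) (H : Set G) (H : Set G))
    (k : Fin m → Fin m → ℕ)
    (hk : ∀ i j, (Finset.univ.filter (fun q => τ i q = j)).card = k i j)
    (i0 : Fin m) (hi0 : w i0 = 1) (v : Fin m → ℚ) (μ : ℚ) (hv0 : v i0 = 1)
    (hv : ∀ i, ∑ j, (k i j : ℚ) * v j = μ * v i)
    (hu : ∀ x : Fin m → ℂ, (∀ i, ∑ j, (k i j : ℂ) * x j = μ * x i) → ∀ i, x i = x i0 * v i) :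
    ∃ χ : IrrCharacter G, (χ : G → ℂ) 1 *
      ((∑ i, (Cfsg.Agent.HN.Count.sz H (w i) : ℚ) * v i ^ 2 : ℚ) : ℂ) = H.index ∧
      (∀ g, (χ : G → ℂ) g⁻¹ = (χ : G → ℂ) g) ∧ ∀ g, ∃ q : ℚ, (χ : G → ℂ) g = q := by
  classical
  have := Fintype.ofFinite G
  have := Fintype.ofFinite H
  choose lab hlab using hcov
  -- the label of a product
  have huniq : ∀ g i, g ∈ doubleCoset (w i) (H : Set G) (H : Set G) → lab g = i := by
    intro g i hg
    apply hdis
    have h1 := doubleCoset_eq_of_mem hg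
    have h2 := doubleCoset_eq_of_mem (hlab g)
    have h3 : w i ∈ doubleCoset g (H : Set G) (H : Set G) := by
      rw [h1]; exact mem_doubleCoset_self H H (w i)
    rwa [h2] at h3
  have hlabl : ∀ h ∈ H, ∀ g, lab (h * g) = lab g := by
    intro h hh g
    apply huniq
    obtain ⟨a, ha, b, hb, e⟩ := mem_doubleCoset.1 (hlab g)
    exact mem_doubleCoset.2 ⟨h * a, H.mul_mem hh ha, b, hb, by
      nth_rewrite 1 [e]; simp only [mul_assoc]⟩
  have hlabr : ∀ h ∈ H, ∀ g, lab (g * h) = lab g := by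
    intro h hh g
    apply huniq
    obtain ⟨a, ha, b, hb, e⟩ := mem_doubleCoset.1 (hlab g)
    exact mem_doubleCoset.2 ⟨a, ha, b * h, H.mul_mem hb hh, by
      nth_rewrite 1 [e]; simp only [mul_assoc]⟩
  have hlabw : ∀ i, lab (w i) = i := fun i => huniq _ _ (mem_doubleCoset_self H H (w i))
  have hlabi : ∀ g, lab g⁻¹ = lab g := by
    intro g
    apply huniq
    obtain ⟨a, ha, b, hb, e⟩ := mem_doubleCoset.1 (hlab g)
    obtain ⟨a', ha', b', hb', e'⟩ := mem_doubleCoset.1 (hinv (lab g))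
    refine mem_doubleCoset.2 ⟨b⁻¹ * a', H.mul_mem (H.inv_mem hb) ha', b' * a⁻¹,
      H.mul_mem hb' (H.inv_mem ha), ?_⟩
    nth_rewrite 1 [e]
    rw [mul_inv_rev, mul_inv_rev, e']
    group
  -- biinvariant functions
  have hf : ∀ f : G → ℂ, (∀ h ∈ H, ∀ g, f (h * g) = f g) → (∀ h ∈ H, ∀ g, f (g * h) = f g) →
      ∀ i g, g ∈ doubleCoset (w i) (H : Set G) (H : Set G) → f g = f (w i) := by
    intro f hl hr i g hg
    obtain ⟨a, ha, b, hb, e⟩ := mem_doubleCoset.1 hg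
    rw [e, hr b hb, hl a ha]
  have hsum : ∀ f : G → ℂ, (∀ h ∈ H, ∀ g, f (h * g) = f g) → (∀ h ∈ H, ∀ g, f (g * h) = f g) →
      ∀ g, ∑ h : H, f (g * h * t) = N * ∑ j, (k (lab g) j : ℂ) * f (w j) := by
    intro f hl hr g
    obtain ⟨a, ha, b, hb, e⟩ := mem_doubleCoset.1 (hlab g)
    have h1 : ∀ h : H, f (g * h * t) = f (w (lab g) * ((⟨b, hb⟩ * h : H) : G) * t) := by
      intro h
      nth_rewrite 1 [e]
      have : a * w (lab g) * b * h * t = a * (w (lab g) * (b * h) * t) := by group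
      rw [this, hl a ha]
      rfl
    have h6 := Equiv.sum_comp (Equiv.mulLeft (⟨b, hb⟩ : H))
      (fun h : H => f (w (lab g) * (h : G) * t))
    simp only [Equiv.coe_mulLeft] at h6
    rw [Finset.sum_congr rfl fun h _ => h1 h, h6]
    have h2 : ∀ h : H, f (w (lab g) * (h : G) * t) = f (w (τ (lab g) (pt h))) :=
      fun h => hf f hl hr _ _ (hτ (lab g) h)
    rw [Finset.sum_congr rfl fun h _ => h2 h]
    rw [← Finset.sum_fiberwise (s := Finset.univ) (g := fun h : H => pt h)]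
    have h3 : ∀ q : Fin n, ∑ h : H with pt h = q, f (w (τ (lab g) (pt h))) =
        N * f (w (τ (lab g) q)) := by
      intro q
      have h4 : ∀ h ∈ Finset.univ.filter (fun h : H => pt h = q),
          f (w (τ (lab g) (pt h))) = f (w (τ (lab g) q)) := by
        intro h hh
        rw [(Finset.mem_filter.1 hh).2]
      rw [Finset.sum_congr rfl h4, Finset.sum_const, nsmul_eq_mul, ← hpt q,
        Nat.card_eq_fintype_card, Fintype.card_subtype]
    rw [Finset.sum_congr rfl fun q _ => h3 q, ← Finset.mul_sum]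
    congr 1
    rw [← Finset.sum_fiberwise (s := Finset.univ) (g := fun q : Fin n => τ (lab g) q)]
    refine Finset.sum_congr rfl fun j _ => ?_
    have h5 : ∀ q ∈ Finset.univ.filter (fun q : Fin n => τ (lab g) q = j),
        f (w (τ (lab g) q)) = f (w j) := by
      intro q hq
      rw [(Finset.mem_filter.1 hq).2]
    rw [Finset.sum_congr rfl h5, Finset.sum_const, nsmul_eq_mul, hk]
  -- the size of a double coset
  have hsz : ∀ i, (Finset.univ.filter (fun g : G => lab g = i)).card =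
      Nat.card H * Cfsg.Agent.HN.Count.sz H (w i) := by
    intro i
    rw [← card_doubleCoset, ← Fintype.card_subtype, ← Nat.card_eq_fintype_card]
    refine Nat.card_congr (Equiv.subtypeEquivRight fun g => ⟨?_, fun h => huniq _ _ h⟩)
    rintro rfl
    exact hlab g
  -- the sum
  set K : ℚ := ∑ i, (Cfsg.Agent.HN.Count.sz H (w i) : ℚ) * v i ^ 2 with hK
  have hKpos : 0 < K := by
    rw [hK]
    refine Finset.sum_pos' (fun i _ => by positivity) ⟨i0, Finset.mem_univ _, ?_⟩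
    rw [hv0, one_pow, mul_one]
    exact_mod_cast Cfsg.Agent.HN.Count.sz_pos H (w i0)
  have hH : (0 : ℚ) < Nat.card H := by exact_mod_cast Nat.card_pos
  have hκ : ∑ z : G, ((v (lab z) : ℚ) : ℂ) * ((v (lab z⁻¹) : ℚ) : ℂ) =
      ((Nat.card H * K : ℚ) : ℂ) := by
    have h1 : ∀ z, ((v (lab z) : ℚ) : ℂ) * ((v (lab z⁻¹) : ℚ) : ℂ) =
        ((v (lab z) ^ 2 : ℚ) : ℂ) := by
      intro z
      rw [hlabi]
      push_cast
      ring
    rw [Finset.sum_congr rfl fun z _ => h1 z, ← Rat.cast_sum]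
    congr 1
    rw [← Finset.sum_fiberwise (s := Finset.univ) (g := fun z : G => lab z), hK, Finset.mul_sum]
    refine Finset.sum_congr rfl fun i _ => ?_
    have h2 : ∀ z ∈ Finset.univ.filter (fun z : G => lab z = i), v (lab z) ^ 2 = v i ^ 2 := by
      intro z hz
      rw [(Finset.mem_filter.1 hz).2]
    rw [Finset.sum_congr rfl h2, Finset.sum_const, nsmul_eq_mul, hsz]
    push_cast
    ring
  have hmain := exists_irr_of_hecke H t (φ := fun g => ((v (lab g) : ℚ) : ℂ))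
    (μ := N * ((μ : ℚ) : ℂ)) (κ := ((Nat.card H * K : ℚ) : ℂ)) ?_ ?_ ?_ ?_ ?_ hκ ?_
    (fun z => by
      show ((v (lab z⁻¹) : ℚ) : ℂ) = ((v (lab z) : ℚ) : ℂ)
      rw [hlabi])
  · obtain ⟨χ, hχ, hreal, hform⟩ := hmain
    refine ⟨χ, ?_, hreal, fun g => ⟨∑ a : G, (Nat.card H * K)⁻¹ * v (lab (a⁻¹ * (g * a))), by
      rw [hform]; push_cast; rfl⟩⟩
    have h1 := H.card_mul_index
    have h2 : ((Nat.card H : ℕ) : ℂ) * H.index = Nat.card G := by exact_mod_cast h1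
    rw [← h2] at hχ
    have h3 : ((Nat.card H : ℕ) : ℂ) ≠ 0 := by exact_mod_cast Nat.card_pos.ne'
    apply mul_left_cancel₀ h3
    rw [← hχ]
    push_cast
    ring
  · intro h hh g
    show ((v (lab (h * g)) : ℚ) : ℂ) = ((v (lab g) : ℚ) : ℂ)
    rw [hlabl h hh]
  · intro h hh g
    show ((v (lab (g * h)) : ℚ) : ℂ) = ((v (lab g) : ℚ) : ℂ)
    rw [hlabr h hh]
  · show ((v (lab 1) : ℚ) : ℂ) = 1
    have : lab 1 = i0 := by rw [← hi0]; exact hlabw i0
    rw [this, hv0, Rat.cast_one]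
  · intro g
    rw [hsum (fun g => ((v (lab g) : ℚ) : ℂ)) (fun h hh g => by
      show ((v (lab (h * g)) : ℚ) : ℂ) = ((v (lab g) : ℚ) : ℂ)
      rw [hlabl h hh]) (fun h hh g => by
      show ((v (lab (g * h)) : ℚ) : ℂ) = ((v (lab g) : ℚ) : ℂ)
      rw [hlabr h hh])]
    rw [mul_assoc]
    congr 1
    have h1 := hv (lab g)
    have h2 : ((∑ j, (k (lab g) j : ℚ) * v j : ℚ) : ℂ) = ((μ * v (lab g) : ℚ) : ℂ) := by rw [h1]
    rw [← Rat.cast_mul, ← h2]
    push_cast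
    exact Finset.sum_congr rfl fun j _ => by rw [hlabw]
  · intro f hl hr hT g
    have h1 := hu (fun i => f (w i)) (fun i => by
      have h2 := hT (w i)
      rw [hsum f hl hr, hlabw, mul_assoc] at h2
      exact mul_left_cancel₀ (by exact_mod_cast hN.ne') h2) (lab g)
    show f g = f 1 * ((v (lab g) : ℚ) : ℂ)
    rw [hf f hl hr _ _ (hlab g), h1, hi0]
  · have : (0 : ℚ) < Nat.card H * K := mul_pos hH hKpos
    exact_mod_cast this.ne'

end Cfsg.Agent.H426.Imc.Sph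
end

-- part: H426/Imc/HN
section
/-!
# S4526, the Harada-Norton group (helper426)

Two rational irreducible constituents of the permutation character of degree 1539000 of odd degree:
`653125 = 5 ^ 5 * 11 * 19` and `16929 = 3 ^ 4 * 11 * 19`.
-/

set_option autoImplicit false
set_option linter.style.longLine false

namespace Cfsg.Agent.H426.Imc.HN

open Cfsg Cfsg.Agent.HN Cfsg.Agent.HN.Pres Cfsg.Agent.HN.DCover Cfsg.Agent.HN.NormalH Cfsg.Agent.HN.DSem
open Cfsg.Agent.HN.Index Cfsg.Agent.H492.IMSph Cfsg.Agent.H33 Cfsg.Agent.H492.IMHN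
open Cfsg.Agent.H625.SylConst

universe u

/-- the eigenvector for the eigenvalue `16` -/
def vC : Fin 9 → ℚ := ![1, 1/88, 1/550, -7/4400, -17/15400, -1/1232, 3/4400, -3/385, 0]

theorem uC (x : Fin 9 → ℂ) (h : ∀ i, ∑ j, (kk i j : ℂ) * x j = ((16 : ℚ) : ℂ) * x i) (i : Fin 9) :
    x i = x 0 * ((vC i : ℚ) : ℂ) := by
  have e := rows x (16) (by push_cast at h ⊢; exact h)
  obtain ⟨h0, h1, h2, h3, h4, h5, h6, h7, h8⟩ := e
  unfold vC
  fin_cases i
  · show x 0 = x 0 * (((1 : ℚ)) : ℂ)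
    simp
  · show x 1 = x 0 * (((1/88 : ℚ)) : ℂ)
    push_cast
    linear_combination (1/1408) * h0
  · show x 2 = x 0 * (((1/550 : ℚ)) : ℂ)
    push_cast
    linear_combination (-23027/24116400) * h0 + (-937/54810) * h1 + (421/43848) * h2 + (5681/87696) * h3 + (3923/25056) * h4 + (-1067/17400) * h5 + (-35/232) * h8
  · show x 3 = x 0 * (((-7/4400 : ℚ)) : ℂ)
    push_cast
    linear_combination (-2161/192931200) * h0 + (619/438480) * h1 + (929/1403136) * h2 + (-1429/350784) * h3 + (-433/100224) * h4 + (1147/69600) * h5 + (-35/3712) * h8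
  · show x 4 = x 0 * (((-17/15400 : ℚ)) : ℂ)
    push_cast
    linear_combination (-3589/2701036800) * h0 + (3323/3069360) * h1 + (4633/9821952) * h2 + (-3917/2455488) * h3 + (-2537/701568) * h4 + (-2461/487200) * h5 + (35/3712) * h8
  · show x 5 = x 0 * (((-1/1232 : ℚ)) : ℂ)
    push_cast
    linear_combination (34687/648248832) * h0 + (6143/3683232) * h1 + (-110275/58931712) * h2 + (-24775/14732928) * h3 + (-38575/4209408) * h4 + (-599/116928) * h5 + (125/7424) * h8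
  · show x 6 = x 0 * (((3/4400 : ℚ)) : ℂ)
    push_cast
    linear_combination (-63311/1157587200) * h0 + (-128/82215) * h1 + (1277/1052352) * h2 + (1753/526176) * h3 + (1135/150336) * h4 + (293/104400) * h5 + (-35/2784) * h8
  · show x 7 = x 0 * (((-3/385 : ℚ)) : ℂ)
    push_cast
    linear_combination (5213/6330555) * h0 + (12067/575505) * h1 + (-15049/1151010) * h2 + (-28307/575505) * h3 + (-37249/328860) * h4 + (-163/1827) * h5 + (1/10) * h6 + (25/174) * h8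
  · show x 8 = x 0 * (((0 : ℚ)) : ℂ)
    push_cast
    linear_combination (5/75168) * h0 + (5/4698) * h1 + (-35/37584) * h2 + (-185/37584) * h3 + (-365/75168) * h4 + (5/2088) * h5 + (11/1392) * h8

theorem eigC (i : Fin 9) : ∑ j, (kk i j : ℚ) * vC j = 16 * vC i := by
  revert i; decide +kernel

theorem normC : (∑ i, (ss i : ℚ) * vC i ^ 2 : ℚ) = 1539000 / 653125 := by decide +kernel


/-- the eigenvector for the eigenvalue `128` -/
def vD : Fin 9 → ℚ := ![1, 1/11, 1/11, 0, 1/77, -1/154, 0, 5/77, 0]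

theorem uD (x : Fin 9 → ℂ) (h : ∀ i, ∑ j, (kk i j : ℂ) * x j = ((128 : ℚ) : ℂ) * x i) (i : Fin 9) :
    x i = x 0 * ((vD i : ℚ) : ℂ) := by
  have e := rows x (128) (by push_cast at h ⊢; exact h)
  obtain ⟨h0, h1, h2, h3, h4, h5, h6, h7, h8⟩ := e
  unfold vD
  fin_cases i
  · show x 0 = x 0 * (((1 : ℚ)) : ℂ)
    simp
  · show x 1 = x 0 * (((1/11 : ℚ)) : ℂ)
    push_cast
    linear_combination (1/1408) * h0
  · show x 2 = x 0 * (((1/11 : ℚ)) : ℂ)
    push_cast
    linear_combination (2669/3696000) * h0 + (4/2625) * h1 + (-67/6720) * h2 + (-11/420) * h3 + (-1/40) * h4 + (-3/500) * h5 + (21/320) * h8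
  · show x 3 = x 0 * (((0 : ℚ)) : ℂ)
    push_cast
    linear_combination (173/16800000) * h0 + (173/131250) * h1 + (71/168000) * h2 + (13/4200) * h3 + (-3/2000) * h4 + (33/3125) * h5 + (-21/1600) * h8
  · show x 4 = x 0 * (((1/77 : ℚ)) : ℂ)
    push_cast
    linear_combination (34061/323400000) * h0 + (227/459375) * h1 + (-17/1176000) * h2 + (-151/29400) * h3 + (-19/14000) * h4 + (-141/21875) * h5 + (21/1600) * h8
  · show x 5 = x 0 * (((-1/154 : ℚ)) : ℂ)
    push_cast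
    linear_combination (-4997/103488000) * h0 + (23/73500) * h1 + (39/62720) * h2 + (1/294) * h3 + (1/210) * h4 + (-61/14000) * h5 + (-1/256) * h8
  · show x 6 = x 0 * (((0 : ℚ)) : ℂ)
    push_cast
    linear_combination (-1/480000) * h0 + (-1/3750) * h1 + (-1/2400) * h2 + (-1/300) * h4 + (3/625) * h5
  · show x 7 = x 0 * (((5/77 : ℚ)) : ℂ)
    push_cast
    linear_combination (79801/161700000) * h0 + (-811/459375) * h1 + (-437/98000) * h2 + (-173/7350) * h3 + (-139/2625) * h4 + (-537/21875) * h5 + (1/10) * h6 + (3/400) * h8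
  · show x 8 = x 0 * (((0 : ℚ)) : ℂ)
    push_cast
    linear_combination (-1/2400000) * h0 + (-1/18750) * h1 + (7/16000) * h2 + (-1/600) * h3 + (31/6000) * h4 + (-101/25000) * h5 + (3/3200) * h8

theorem eigD (i : Fin 9) : ∑ j, (kk i j : ℚ) * vD j = 128 * vD i := by
  revert i; decide +kernel

theorem normD : (∑ i, (ss i : ℚ) * vD i ^ 2 : ℚ) = 1539000 / 16929 := by decide +kernel


theorem main (v : Fin 9 → ℚ) (μ : ℚ) (hv0 : v 0 = 1) (hv : ∀ i, ∑ j, (kk i j : ℚ) * v j = μ * v i)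
    (hu : ∀ x : Fin 9 → ℂ, (∀ i, ∑ j, (kk i j : ℂ) * x j = (μ : ℂ) * x i) → ∀ i, x i = x 0 * v i) :
    ∃ χ : IrrCharacter Cfsg.Spor.HN, (χ : Cfsg.Spor.HN → ℂ) 1 *
      ((∑ i, (ss i : ℚ) * v i ^ 2 : ℚ) : ℂ) = 1539000 ∧ ∀ g, (χ : Cfsg.Spor.HN → ℂ) g⁻¹ = (χ : Cfsg.Spor.HN → ℂ) g := by
  obtain ⟨χ, hχ, hr, -⟩ := Sph.exists_irr_of_table H w9 ht DistinctC.hdis covers hinv ptH _
    (Count.card_stab_pos _ _) card_ptH τ mul_mem_doubleCoset kk card_τ 0 w9_zero v μ hv0 hv hu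
  refine ⟨χ, ?_, hr⟩
  simp only [sizes] at hχ
  rw [hχ, index_H DistinctC.hdis]
  norm_num

/-- a real irreducible character of degree 653125 -/
theorem exists_653125 : ∃ χ : IrrCharacter Cfsg.Spor.HN, charDegree (χ : Cfsg.Spor.HN → ℂ) = 653125 ∧
    ∀ g, (χ : Cfsg.Spor.HN → ℂ) g⁻¹ = (χ : Cfsg.Spor.HN → ℂ) g := by
  obtain ⟨χ, hχ, hr⟩ := main vC 16 rfl eigC uC
  refine ⟨χ, ?_, hr⟩
  rw [normC] at hχ
  have h1 := Blocks.Basic.irr_one_eq_charDegree χ.2
  rw [h1] at hχ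
  have h2 : ((charDegree (χ : Cfsg.Spor.HN → ℂ) : ℕ) : ℂ) = ((653125 : ℕ) : ℂ) := by
    push_cast at hχ ⊢
    linear_combination (653125 / 1539000 : ℂ) * hχ
  exact_mod_cast h2

/-- a real irreducible character of degree 16929 -/
theorem exists_16929 : ∃ χ : IrrCharacter Cfsg.Spor.HN, charDegree (χ : Cfsg.Spor.HN → ℂ) = 16929 ∧
    ∀ g, (χ : Cfsg.Spor.HN → ℂ) g⁻¹ = (χ : Cfsg.Spor.HN → ℂ) g := by
  obtain ⟨χ, hχ, hr⟩ := main vD 128 rfl eigD uD
  refine ⟨χ, ?_, hr⟩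
  rw [normD] at hχ
  have h1 := Blocks.Basic.irr_one_eq_charDegree χ.2
  rw [h1] at hχ
  have h2 : ((charDegree (χ : Cfsg.Spor.HN → ℂ) : ℕ) : ℂ) = ((16929 : ℕ) : ℂ) := by
    push_cast at hχ ⊢
    linear_combination (16929 / 1539000 : ℂ) * hχ
  exact_mod_cast h2

theorem imc_HN {p : ℕ} [hp : Fact p.Prime] (hd : p ∣ Nat.card Cfsg.Spor.HN) : IMC p Cfsg.Spor.HN := by
  by_cases h2 : p = 2
  · subst h2
    exact H94.IMCLoc.imc_two_of_loc (H287.Blk.loc_HN ⟨MulEquiv.refl _⟩)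
  by_cases h3 : p ∣ 653125
  · obtain ⟨χ, h4, h5⟩ := exists_653125
    exact Real.imc_of_real_odd h2 χ h5 (by rw [h4]; exact h3) (by rw [h4]; decide)
  by_cases h4 : p ∣ 16929
  · obtain ⟨χ, h5, h6⟩ := exists_16929
    exact Real.imc_of_real_odd h2 χ h6 (by rw [h5]; exact h4) (by rw [h5]; decide)
  have h7 : p = 7 := by
    rw [card_hn, show (273030912000000 : ℕ) = 2 ^ 14 * (3 ^ 6 * (5 ^ 6 * (7 * (11 * 19)))) by norm_num] at hd
    have hc : ∀ q : ℕ, q.Prime → p ∣ q → p = q := fun q hq h => (Nat.prime_dvd_prime_iff_eq hp.out hq).1 h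
    rcases hp.out.dvd_mul.1 hd with h | hd
    · exact absurd (hc 2 (by norm_num) (hp.out.dvd_of_dvd_pow h)) h2
    rcases hp.out.dvd_mul.1 hd with h | hd
    · exact absurd ((hp.out.dvd_of_dvd_pow h).trans (by norm_num)) h4
    rcases hp.out.dvd_mul.1 hd with h | hd
    · exact absurd ((hp.out.dvd_of_dvd_pow h).trans (by norm_num)) h3
    rcases hp.out.dvd_mul.1 hd with h | hd
    · exact hc 7 (by norm_num) h
    rcases hp.out.dvd_mul.1 hd with h | hd
    · exact absurd (h.trans (by norm_num)) h4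
    · exact absurd (hd.trans (by norm_num)) h4
  subst h7
  exact H794.Imc.imc_of_exact hd (by rw [card_hn]; norm_num) (im_hn ⟨MulEquiv.refl _⟩ hd)

/-- **The row `HN` of S4526.** -/
theorem imc_hn {S : Type u} [Group S] [Finite S] (h : Cfsg.Spor.IsoHN S) {p : ℕ} [hp : Fact p.Prime]
    (hd : p ∣ Nat.card S) : IMC p S := by
  obtain ⟨e⟩ := h
  refine IMC.of_equiv e (imc_HN ?_)
  rwa [Nat.card_congr e.toEquiv] at hd

end Cfsg.Agent.H426.Imc.HN
end
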